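import Mathlib
import Groth.Agent.H70.RegFibre.Weak
import Groth.Agent.H1.FlatLocusLoc

/-!
# Relative (S₁): an element avoiding the minimal primes of the fibres of a flat finitely presented
module with (S₁) fibres is a non-zero-divisor (S19195)
-/

set_option autoImplicit false
set_option linter.style.haveILetI false
universe u

open TensorProduct Function

namespace Groth.Agent.H70.RelS1

section fibre

variable (A B M : Type u) [CommRing A] [CommRing B] [Algebra A B]
  [AddCommGroup M] [Module B M] [Module A M] [IsScalarTower A B M]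

/-- `(B ⊗[A] κ) ⊗[B] M ≃ M ⊗[A] κ`, `B`-linearly. -/
noncomputable def fibreTensorEquiv (κ : Type u) [CommRing κ] [Algebra A κ] :
    (B ⊗[A] κ) ⊗[B] M ≃ₗ[B] M ⊗[A] κ :=
  TensorProduct.comm B (B ⊗[A] κ) M ≪≫ₗ
    TensorProduct.AlgebraTensorModule.cancelBaseChange A B B M κ

/-- regularity of `a ⊗ 1` on the fibre module gives regularity of `a` on `M ⊗[A] κ` -/
theorem isSMulRegular_tensor_of_fibre (κ : Type u) [CommRing κ] [Algebra A κ] (a : B)
    (h : IsSMulRegular ((B ⊗[A] κ) ⊗[B] M) (a ⊗ₜ[A] (1 : κ))) :
    IsSMulRegular (M ⊗[A] κ) a := by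
  have h1 : IsSMulRegular ((B ⊗[A] κ) ⊗[B] M) a := by
    intro x y hxy
    apply h
    have hsm : ∀ z : (B ⊗[A] κ) ⊗[B] M, (a ⊗ₜ[A] (1 : κ)) • z = a • z := by
      intro z
      rw [← algebraMap_smul (B ⊗[A] κ) a z, Algebra.TensorProduct.algebraMap_apply]
      rfl
    simp only [hsm]
    exact hxy
  exact ((fibreTensorEquiv A B M κ).isSMulRegular_congr a).mp h1

end fibre

section S1

variable (A B M : Type u) [CommRing A] [CommRing B] [Algebra A B]
  [Algebra.FiniteType A B] [AddCommGroup M] [Module B M] [Module.Finite B M]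

theorem isNoetherianRing_fibre (κ : Type u) [Field κ] [Algebra A κ] :
    IsNoetherianRing (B ⊗[A] κ) := by
  haveI : Algebra.FiniteType κ (κ ⊗[A] B) := Algebra.FiniteType.baseChange κ
  haveI : IsNoetherianRing (κ ⊗[A] B) := Algebra.FiniteType.isNoetherianRing κ _
  exact isNoetherianRing_of_ringEquiv (κ ⊗[A] B)
    (Algebra.TensorProduct.comm A κ B).toRingEquiv

/-- on a fibre with (S₁), an element avoiding the minimal primes of the annihilator is regular -/
theorem isSMulRegular_fibre_of_S1 (κ : Type u) [Field κ] [Algebra A κ] (c : B ⊗[A] κ)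
    (hS1 : associatedPrimes (B ⊗[A] κ) ((B ⊗[A] κ) ⊗[B] M) ⊆
      (Module.annihilator (B ⊗[A] κ) ((B ⊗[A] κ) ⊗[B] M)).minimalPrimes)
    (hc : ∀ P ∈ (Module.annihilator (B ⊗[A] κ) ((B ⊗[A] κ) ⊗[B] M)).minimalPrimes, c ∉ P) :
    IsSMulRegular ((B ⊗[A] κ) ⊗[B] M) c := by
  haveI := isNoetherianRing_fibre A B κ
  by_contra hreg
  have hmem : c ∈ ({r : B ⊗[A] κ | IsSMulRegular ((B ⊗[A] κ) ⊗[B] M) r}ᶜ : Set (B ⊗[A] κ)) := hreg
  rw [← biUnion_associatedPrimes_eq_compl_regular (B ⊗[A] κ) ((B ⊗[A] κ) ⊗[B] M)] at hmem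
  simp only [Set.mem_iUnion, SetLike.mem_coe, exists_prop] at hmem
  obtain ⟨P, hP, hcP⟩ := hmem
  exact hc P (hS1 hP) hcP

end S1

section Main

variable (A B M : Type u) [CommRing A] [CommRing B] [Algebra A B]
  [Algebra.FinitePresentation A B] [AddCommGroup M] [Module B M] [Module A M]
  [IsScalarTower A B M] [Module.FinitePresentation B M] [Module.Flat A M]

/-- an element which is regular on all fibres `M ⊗[A] κ(p)` is regular on `M` -/
theorem isSMulRegular_of_fibres (a : B)
    (h : ∀ (p : Ideal A) [p.IsPrime], IsSMulRegular (M ⊗[A] p.ResidueField) a) :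
    IsSMulRegular M a := by
  have hinj : Injective (LinearMap.lsmul B M a) := by
    apply injective_of_localized_maximal
    intro q hq
    haveI : q.IsPrime := hq.isPrime
    haveI : q.LiesOver (q.comap (algebraMap A B)) := ⟨rfl⟩
    have h1 : IsSMulRegular
        (LocalizedModule q.primeCompl (M ⊗[A] (q.comap (algebraMap A B)).ResidueField)) a := by
      have := IsSMulRegular.of_isLocalizedModule (Localization.AtPrime q) q.primeCompl
        (LocalizedModule.mkLinearMap q.primeCompl
          (M ⊗[A] (q.comap (algebraMap A B)).ResidueField)) (h (q.comap (algebraMap A B)))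
      intro x y hxy
      apply this
      simpa [algebraMap_smul] using hxy
    have hflat : Module.Flat A (LocalizedModule q.primeCompl M) :=
      Groth.Agent.H1.FlatLocus.flat_of_isLocalizedModule_algebra (R := A) q.primeCompl
        (LocalizedModule.mkLinearMap q.primeCompl M)
    have h2 := Groth.Agent.H70.RegFibre.isWeaklyRegular_localizedModule_of_fibre M
      (q.comap (algebraMap A B)) q [a] hflat
      ((RingTheory.Sequence.isWeaklyRegular_singleton_iff _ a).mpr h1)
    have h3 : IsSMulRegular (LocalizedModule q.primeCompl M) a :=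
      (RingTheory.Sequence.isWeaklyRegular_singleton_iff _ a).mp h2
    have hmap : ∀ z, LocalizedModule.map q.primeCompl (LinearMap.lsmul B M a) z = a • z := by
      intro z
      induction z using LocalizedModule.induction_on with
      | h m s => rw [LocalizedModule.map_mk, LocalizedModule.smul'_mk]; rfl
    intro x y hxy
    apply h3
    simpa [hmap] using hxy
  exact hinj

end Main

end Groth.Agent.H70.RelS1
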